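import Groth.Agent.Lib.UnitsFG.Valuation
import Mathlib

/-!
Units of a finitely generated domain over a field, modulo algebraic constants, are detected by finitely
many integer valued valuations.
-/

set_option linter.style.header false
set_option linter.unusedSectionVars false
set_option linter.style.haveILetI false

universe u

open MvPolynomial IsDedekindDomain

namespace GrothLib.UnitsFG

/-- Finitely many integer valued characters of the units of `A` whose common kernel consists of
elements integral over `k`. -/
def BoundedUnits (k A : Type u) [CommRing k] [CommRing A] [Algebra k A] : Prop :=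
  ∃ (ι : Type u) (_ : Finite ι) (φ : Aˣ →* (ι → Multiplicative ℤ)),
    ∀ x : Aˣ, φ x = 1 → IsIntegral k (x : A)

theorem boundedUnits_of_family {k A : Type u} [CommRing k] [CommRing A] [Algebra k A] {κ : Type u}
    [Finite κ] {B : κ → Type u} [∀ i, CommRing (B i)] [∀ i, Algebra k (B i)] (f : ∀ i, A →ₐ[k] B i)
    (hf : ∀ a : A, (∀ i, f i a = 0) → a = 0) (hB : ∀ i, BoundedUnits k (B i)) : BoundedUnits k A := by
  choose ι hι φ hφ using hB
  refine ⟨Σ i, ι i, inferInstance,
    MonoidHom.pi fun j => (Pi.evalMonoidHom _ j.2).comp ((φ j.1).comp (Units.map (f j.1).toMonoidHom)),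
    fun x hx => ?_⟩
  have hi : ∀ i, IsIntegral k (f i (x : A)) := fun i => by
    refine hφ i (Units.map (f i).toMonoidHom x) (funext fun j => ?_)
    exact congr_fun hx ⟨i, j⟩
  choose p hp hpx using hi
  haveI := Fintype.ofFinite κ
  refine ⟨∏ i, p i, Polynomial.monic_prod_of_monic _ _ fun i _ => hp i, ?_⟩
  rw [← Polynomial.aeval_def]
  refine hf _ fun i => ?_
  rw [← Polynomial.aeval_algHom_apply, map_prod]
  exact Finset.prod_eq_zero (Finset.mem_univ i) (by rw [Polynomial.aeval_def]; exact hpx i)

/-- The separable case: a finite separable extension of the field of rational functions. -/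
theorem exists_characters_of_isSeparable (σ k L E : Type u) [Field k] [Field L] [Field E]
    [Algebra (MvPolynomial σ k) L] [IsFractionRing (MvPolynomial σ k) L] [Algebra L E]
    [Algebra (MvPolynomial σ k) E] [IsScalarTower (MvPolynomial σ k) L E]
    [Algebra k E] [IsScalarTower k (MvPolynomial σ k) E]
    [FiniteDimensional L E] [Algebra.IsSeparable L E] :
    ∃ (ι : Type u) (_ : Finite ι) (φ : Eˣ →* (ι → Multiplicative ℤ)),
      ∀ x : Eˣ, φ x = 1 → IsIntegral (MvPolynomial σ k) (x : E) → IsIntegral k (x : E) := by
  classical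
  let O := (fracVal σ k L).valuationSubring
  haveI : IsPrincipalIdealRing O := isPrincipalIdealRing_valuationSubring _
  haveI : IsDedekindDomain O := IsPrincipalIdealRing.isDedekindDomain O
  letI : Algebra O E := ((algebraMap L E).comp (algebraMap O L)).toAlgebra
  haveI : IsScalarTower O L E := IsScalarTower.of_algebraMap_eq fun _ => rfl
  haveI : FaithfulSMul O E := (faithfulSMul_iff_algebraMap_injective O E).mpr
    ((algebraMap L E).injective.comp Subtype.val_injective)
  let C := integralClosure O E
  haveI : IsDedekindDomain C := IsIntegralClosure.isDedekindDomain O L E C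
  haveI : IsFractionRing C E := IsIntegralClosure.isFractionRing_of_finite_extension O L E C
  haveI : Algebra.IsIntegral O C := IsIntegralClosure.isIntegral_algebra O E
  haveI hfin : Finite (HeightOneSpectrum C) := by
    have hover : ∀ v : HeightOneSpectrum C,
        v.asIdeal ∈ (IsLocalRing.maximalIdeal O).primesOver C := fun v => by
      have hmax : (v.under O).asIdeal.IsMaximal :=
        (v.under O).isPrime.isMaximal (v.under O).ne_bot
      exact ⟨v.isPrime, ⟨(IsLocalRing.eq_maximalIdeal hmax).symm⟩⟩
    haveI : (IsLocalRing.maximalIdeal O).IsMaximal := IsLocalRing.maximalIdeal.isMaximal O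
    haveI := (IsDedekindDomain.primesOver_finite (IsLocalRing.maximalIdeal O) C).to_subtype
    exact Finite.of_injective (fun v => (⟨v.asIdeal, hover v⟩ : (IsLocalRing.maximalIdeal O).primesOver C))
      fun v w h => HeightOneSpectrum.ext (congrArg Subtype.val h)
  refine ⟨HeightOneSpectrum C, hfin, MonoidHom.pi fun v =>
    (WithZero.unitsWithZeroEquiv (α := Multiplicative ℤ)).toMonoidHom.comp
      (Units.map ((v.valuation E).toMonoidWithZeroHom : E →* WithZero (Multiplicative ℤ))), ?_⟩
  intro x hx hB
  -- `x` is integral over `O`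
  have hxC : (x : E) ∈ (algebraMap C E).range := by
    refine HeightOneSpectrum.mem_integers_of_valuation_le_one E _ fun v => ?_
    have h0 := congr_fun hx v
    have h1 : Units.map ((v.valuation E).toMonoidWithZeroHom : E →* WithZero (Multiplicative ℤ)) x = 1 :=
      (MulEquiv.map_eq_one_iff (WithZero.unitsWithZeroEquiv (α := Multiplicative ℤ))).mp h0
    exact (congrArg Units.val h1).le
  have hO : IsIntegral O (x : E) := by
    obtain ⟨c, hc⟩ := hxC
    exact hc ▸ c.2
  -- compare the coefficients of the minimal polynomial
  have h₁ := minpoly.isIntegrallyClosed_eq_field_fractions' L hB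
  have h₂ := minpoly.isIntegrallyClosed_eq_field_fractions' L hO
  set p := minpoly (MvPolynomial σ k) (x : E) with hpdef
  have hconst : ∀ n, p.coeff n = MvPolynomial.C ((p.coeff n).coeff 0) := fun n => by
    refine eq_C_of_fracVal_le_one L ?_
    have h := congrArg (fun q => Polynomial.coeff q n) (h₁.symm.trans h₂)
    simp only [Polynomial.coeff_map] at h
    rw [h]
    exact ((minpoly O (x : E)).coeff n).2
  have hlift : p ∈ Polynomial.lifts (algebraMap k (MvPolynomial σ k)) := by
    rw [Polynomial.lifts_iff_coeff_lifts]
    exact fun n => ⟨_, (hconst n).symm⟩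
  obtain ⟨q, hq, -, hqm⟩ := Polynomial.lifts_and_degree_eq_and_monic hlift (minpoly.monic hB)
  refine ⟨q, hqm, ?_⟩
  rw [← Polynomial.aeval_def, ← Polynomial.aeval_map_algebraMap (MvPolynomial σ k), hq]
  exact minpoly.aeval _ _

theorem boundedUnits_of_domain (k A : Type u) [Field k] [CommRing A] [IsDomain A] [Algebra k A]
    [Algebra.FiniteType k A] : BoundedUnits k A := by
  obtain ⟨s, g, hg, hfin⟩ := exists_finite_inj_algHom_of_fg k A
  let σ := ULift.{u} (Fin s)
  let g' : MvPolynomial σ k →ₐ[k] A := g.comp (renameEquiv k Equiv.ulift).toAlgHom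
  have hg' : Function.Injective g' := hg.comp (renameEquiv k Equiv.ulift).injective
  have hfin' : g'.Finite := hfin.comp (AlgHom.Finite.of_surjective _ (renameEquiv k Equiv.ulift).surjective)
  let B := MvPolynomial σ k
  algebraize [g'.toRingHom]
  haveI : IsScalarTower k B A := IsScalarTower.of_algHom g'
  haveI : Module.Finite B A := hfin'
  let K := FractionRing A
  haveI : FaithfulSMul B A := (faithfulSMul_iff_algebraMap_injective B A).mpr hg'
  haveI : FaithfulSMul B K := FaithfulSMul.trans B A K
  let L := FractionRing B
  letI : Algebra L K := FractionRing.liftAlgebra B K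
  haveI : IsScalarTower B L K := FractionRing.isScalarTower_liftAlgebra B K
  haveI : FiniteDimensional L K := Module.Finite.of_isLocalization B A (nonZeroDivisors B)
  let E := separableClosure L K
  haveI : IsScalarTower k B E := IsScalarTower.of_algebraMap_eq fun c => Subtype.ext
    (IsScalarTower.algebraMap_apply k B K c)
  haveI : IsScalarTower B E K := IsScalarTower.of_algebraMap_eq fun _ => rfl
  haveI : IsScalarTower k E K := IsScalarTower.of_algebraMap_eq fun _ => rfl
  obtain ⟨ι, hι, φ, hφ⟩ := exists_characters_of_isSeparable σ k L E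
  haveI : IsPurelyInseparable E K := separableClosure.isPurelyInseparable L K
  haveI : FiniteDimensional E K := Module.Finite.of_restrictScalars_finite L E K
  let q := ringExpChar E ^ IsPurelyInseparable.exponent E K
  have hq : 0 < q := by
    obtain ⟨p, hp⟩ := ExpChar.exists E
    simp only [q, ringExpChar.eq E p]
    exact pow_pos (expChar_pos E p) _
  let a : Aˣ →* Kˣ := Units.map (algebraMap A K).toMonoidHom
  have hmem : ∀ x : Aˣ, ((a x ^ q : Kˣ) : K) ∈ E := fun x => by
    obtain ⟨e, he⟩ := IsPurelyInseparable.exponent_def E ((a x : Kˣ) : K)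
    rw [Units.val_pow_eq_pow_val, ← he]
    exact e.2
  let b : Aˣ →* Eˣ :=
    { toFun := fun x => Units.mk0 ⟨((a x ^ q : Kˣ) : K), hmem x⟩ (fun h => (a x ^ q).ne_zero (congrArg Subtype.val h))
      map_one' := by ext; simp
      map_mul' := fun x y => by ext; simp [mul_pow] }
  refine ⟨ι, hι, φ.comp b, fun x hx => ?_⟩
  have hB : IsIntegral B ((b x : Eˣ) : E) := by
    refine (isIntegral_algHom_iff (IsScalarTower.toAlgHom B E K) (algebraMap E K).injective).mp ?_
    show IsIntegral B ((a x ^ q : Kˣ) : K)
    rw [Units.val_pow_eq_pow_val]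
    exact ((Algebra.IsIntegral.isIntegral (R := B) (x : A)).map (IsScalarTower.toAlgHom B A K)).pow q
  have h := (hφ (b x) hx hB).map (IsScalarTower.toAlgHom k E K)
  have h' : IsIntegral k ((algebraMap A K (x : A)) ^ q) := h
  exact (isIntegral_algHom_iff (IsScalarTower.toAlgHom k A K) (IsFractionRing.injective A K)).mp
    (IsIntegral.of_pow hq h')

end GrothLib.UnitsFG
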