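import Mathlib

/-!
Elements of a subfield of the global functions of a connected reduced scheme locally of finite type over a
field are integral over that field.
-/

set_option linter.style.header false
set_option linter.style.haveILetI false

universe u

open Polynomial CategoryTheory AlgebraicGeometry

namespace GrothLib.UnitsFG

/-- Sylvester's sequence of polynomials: monic, of positive degree, pairwise coprime. -/
noncomputable def sylv (R : Type*) [CommRing R] : ℕ → R[X]
  | 0 => X
  | n + 1 => sylv R n * (sylv R n - 1) + 1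

theorem sylv_map {R S : Type*} [CommRing R] [CommRing S] (f : R →+* S) (n : ℕ) :
    (sylv R n).map f = sylv S n := by
  induction n with
  | zero => simp [sylv]
  | succ n ih => simp [sylv, Polynomial.map_mul, Polynomial.map_sub, Polynomial.map_add, ih]

theorem monic_sylv (n : ℕ) : (sylv ℤ n).Monic ∧ 0 < (sylv ℤ n).natDegree := by
  induction n with
  | zero => exact ⟨monic_X, by simp [sylv]⟩
  | succ n ih =>
    have hd : (1 : ℤ[X]).degree < (sylv ℤ n).degree := by
      rw [degree_one]; exact natDegree_pos_iff_degree_pos.mp ih.2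
    have hm1 : (sylv ℤ n - 1).Monic := ih.1.sub_of_left hd
    have hm := ih.1.mul hm1
    have hd' : 0 < (sylv ℤ n * (sylv ℤ n - 1)).natDegree := by
      rw [ih.1.natDegree_mul hm1]; omega
    refine ⟨?_, ?_⟩
    · refine hm.add_of_left ?_
      rw [degree_one]; exact natDegree_pos_iff_degree_pos.mp hd'
    · show 0 < (sylv ℤ n * (sylv ℤ n - 1) + 1).natDegree
      rw [← C_1, natDegree_add_C]; exact hd'

theorem monic_sylv' (R : Type*) [CommRing R] [Nontrivial R] (n : ℕ) :
    (sylv R n).Monic ∧ 0 < (sylv R n).natDegree := by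
  rw [← sylv_map (Int.castRingHom R) n]
  exact ⟨(monic_sylv n).1.map _, by rw [(monic_sylv n).1.natDegree_map]; exact (monic_sylv n).2⟩

theorem sylv_dvd (R : Type*) [CommRing R] {m n : ℕ} (h : m < n) : sylv R m ∣ sylv R n - 1 := by
  induction n with
  | zero => omega
  | succ n ih =>
    rw [sylv, add_sub_cancel_right]
    rcases Nat.lt_succ_iff_lt_or_eq.mp h with h | h
    · exact (ih h).mul_left _
    · exact h ▸ dvd_mul_right _ _

theorem isCoprime_sylv (R : Type*) [CommRing R] {m n : ℕ} (h : m ≠ n) :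
    IsCoprime (sylv R m) (sylv R n) := by
  wlog hlt : m < n generalizing m n
  · exact (this h.symm (by omega)).symm
  obtain ⟨c, hc⟩ := sylv_dvd R hlt
  exact ⟨-c, 1, by linear_combination hc⟩

/-- An element of a finitely generated algebra over a field at which all the `sylv` polynomials are units
is integral. -/
theorem isIntegral_of_isUnit_sylv {k A : Type*} [Field k] [CommRing A] [Algebra k A]
    [Algebra.FiniteType k A] (c : A) (h : ∀ n, IsUnit (aeval c (sylv k n))) : IsIntegral k c := by
  by_contra hc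
  have hinj : Function.Injective (aeval c : k[X] →ₐ[k] A) :=
    transcendental_iff_injective.mp fun halg => hc (isAlgebraic_iff_isIntegral.mp halg)
  have hfp : (aeval c : k[X] →ₐ[k] A).toRingHom.FinitePresentation := by
    algebraize [(aeval c : k[X] →ₐ[k] A).toRingHom]
    haveI : IsScalarTower k k[X] A := IsScalarTower.of_algHom _
    exact RingHom.FinitePresentation.of_finiteType.mp
      (Algebra.FiniteType.of_restrictScalars_finiteType k k[X] A)
  obtain ⟨S, hS⟩ := PrimeSpectrum.exists_constructibleSetData_iff.mpr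
    (PrimeSpectrum.isConstructible_range_comap hfp)
  have hbot : (⊥ : PrimeSpectrum k[X]) ∈ S.toSet := by
    rw [hS]
    obtain ⟨P, hP, hPc⟩ := Ideal.exists_comap_eq_of_mem_minimalPrimes_of_injective hinj
      (⊥ : Ideal k[X]) (by rw [IsDomain.minimalPrimes_eq_singleton_bot]; rfl)
    exact ⟨⟨P, hP⟩, PrimeSpectrum.ext hPc⟩
  simp only [PrimeSpectrum.ConstructibleSetData.toSet, Set.mem_iUnion] at hbot
  obtain ⟨C, hCS, hC⟩ := hbot
  obtain ⟨hg, hf⟩ := hC
  have hf0 : C.f ≠ 0 := fun h0 => hf (by rw [PrimeSpectrum.mem_zeroLocus]; simp [h0])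
  obtain ⟨n, q, hq, hqn, hqf⟩ : ∃ n q, Irreducible q ∧ q ∣ sylv k n ∧ ¬ q ∣ C.f := by
    by_contra hne
    push Not at hne
    have hnu : ∀ n, ¬ IsUnit (sylv k n) := fun n hu => by
      have := natDegree_eq_zero_of_isUnit hu
      have := (monic_sylv' k n).2
      omega
    choose q hq hqn using fun n => WfDvdMonoid.exists_irreducible_factor (hnu n) (monic_sylv' k n).1.ne_zero
    have hdvd : (∏ i ∈ Finset.range (C.f.natDegree + 1), q i) ∣ C.f :=
      Finset.prod_dvd_of_coprime (fun i _ j _ hij =>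
        ((isCoprime_sylv k hij).of_isCoprime_of_dvd_left (hqn i)).of_isCoprime_of_dvd_right (hqn j))
        fun i _ => hne i (q i) (hq i) (hqn i)
    have hle := natDegree_le_of_dvd hdvd hf0
    rw [natDegree_prod _ _ fun i _ => (hq i).ne_zero] at hle
    have hge : ∑ i ∈ Finset.range (C.f.natDegree + 1), 1 ≤
        ∑ i ∈ Finset.range (C.f.natDegree + 1), (q i).natDegree :=
      Finset.sum_le_sum fun i _ => (hq i).natDegree_pos
    simp only [Finset.sum_const, Finset.card_range, smul_eq_mul, mul_one] at hge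
    omega
  haveI hprime : (Ideal.span {q}).IsPrime := (Ideal.span_singleton_prime hq.ne_zero).mpr hq.prime
  have hmem : (⟨Ideal.span {q}, hprime⟩ : PrimeSpectrum k[X]) ∈ S.toSet := by
    simp only [PrimeSpectrum.ConstructibleSetData.toSet, Set.mem_iUnion]
    refine ⟨C, hCS, ?_, fun h' => hqf ?_⟩
    · exact le_trans (by simpa using hg) (show ({0} : Set k[X]) ⊆ (Ideal.span {q} : Ideal k[X]) by simp)
    · simpa [Ideal.mem_span_singleton] using h'
  rw [hS] at hmem
  obtain ⟨P, hP⟩ := hmem
  have hqP : aeval c q ∈ P.asIdeal := by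
    have := congrArg PrimeSpectrum.asIdeal hP
    exact (this.symm.le (Ideal.mem_span_singleton_self q) : q ∈ P.asIdeal.comap _)
  obtain ⟨r, hr⟩ := hqn
  refine P.isPrime.ne_top (Ideal.eq_top_of_isUnit_mem _ hqP ?_)
  exact isUnit_of_dvd_unit ⟨aeval c r, by rw [hr, map_mul]⟩ (h n)

/-- In a field, every element is either a root of some `sylv` polynomial, or none of them vanishes. -/
theorem isIntegral_map_field {k A F : Type*} [Field k] [CommRing A] [Algebra k A]
    [Algebra.FiniteType k A] [Field F] (g : F →+* A) (t : F) : IsIntegral k (g t) := by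
  by_cases h : ∃ n, aeval t (sylv ℤ n) = 0
  · obtain ⟨n, hn⟩ := h
    refine ⟨sylv k n, ?_, ?_⟩
    · rw [← sylv_map (Int.castRingHom k) n]; exact (monic_sylv n).1.map _
    · rw [← sylv_map (Int.castRingHom k) n, eval₂_map]
      have := congrArg g hn
      rwa [aeval_def, hom_eval₂, map_zero, RingHom.ext_int (g.comp _) ((algebraMap k A).comp (Int.castRingHom k))] at this
  · push Not at h
    refine isIntegral_of_isUnit_sylv _ fun n => ?_
    have hu := (isUnit_iff_ne_zero.mpr (h n)).map g
    rwa [aeval_def, hom_eval₂, RingHom.ext_int (g.comp _) ((algebraMap k A).comp (Int.castRingHom k)),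
      ← eval₂_map, sylv_map, ← aeval_def] at hu

theorem evaluation_top_eq_zero_iff {X : Scheme.{u}} (y : X) (f : Γ(X, ⊤)) :
    X.evaluation ⊤ y trivial f = 0 ↔ y ∉ X.basicOpen f :=
  Scheme.evaluation_eq_zero_iff_notMem_basicOpen X (U := ⊤) y trivial f

theorem evaluation_top_ne_zero_iff {X : Scheme.{u}} (y : X) (f : Γ(X, ⊤)) :
    X.evaluation ⊤ y trivial f ≠ 0 ↔ y ∈ X.basicOpen f :=
  Scheme.evaluation_ne_zero_iff_mem_basicOpen X (U := ⊤) y trivial f

/-- A global function on a connected scheme which is idempotent is `0` or `1`. -/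
theorem eq_zero_or_one_of_idempotent (X : Scheme.{u}) [IsReduced X] [ConnectedSpace X] (e : Γ(X, ⊤))
    (he : e * e = e) : e = 0 ∨ e = 1 := by
  have hz : (X.basicOpen e : Set X)ᶜ = (X.basicOpen (1 - e) : Set X) := by
    ext y
    simp only [Set.mem_compl_iff, SetLike.mem_coe]
    rw [← evaluation_top_ne_zero_iff y (1 - e), ← evaluation_top_eq_zero_iff y e]
    have h := congrArg (X.evaluation ⊤ y trivial) he
    rw [map_mul] at h
    rw [map_sub, map_one, sub_ne_zero]
    constructor
    · intro h0; rw [h0]; exact one_ne_zero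
    · intro h1
      by_contra h0
      exact h1 ((mul_eq_left₀ h0).mp h).symm
  have hclop : IsClopen (X.basicOpen e : Set X) :=
    ⟨by rw [← isOpen_compl_iff, hz]; exact (X.basicOpen (1 - e)).2, (X.basicOpen e).2⟩
  rcases isClopen_iff.mp hclop with h | h
  · exact Or.inl ((basicOpen_eq_bot_iff e).mp (TopologicalSpace.Opens.ext h))
  · refine Or.inr (sub_eq_zero.mp ((basicOpen_eq_bot_iff (1 - e)).mp (TopologicalSpace.Opens.ext ?_))).symm
    rw [← hz, h, Set.compl_univ]; rfl

/-- In a connected reduced scheme, an element of a subfield of the global functions is integral over any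
base field over which the scheme is locally of finite type. -/
theorem isIntegralElem_of_field (X : Scheme.{u}) [IsReduced X] [ConnectedSpace X] (k : Type u) [Field k]
    (a : X ⟶ Spec (CommRingCat.of k)) [LocallyOfFiniteType a] {F : Type*} [Field F]
    (g : F →+* Γ(X, ⊤)) (t : F) :
    (a.appTop.hom.comp (Scheme.ΓSpecIso (CommRingCat.of k)).inv.hom).IsIntegralElem (g t) := by
  classical
  set r := a.appTop.hom.comp (Scheme.ΓSpecIso (CommRingCat.of k)).inv.hom
  let ev : ∀ y : X, Γ(X, ⊤) →+* X.residueField y := fun y => (X.evaluation ⊤ y trivial).hom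
  let val : X → k[X] → Prop := fun y q => eval₂ ((ev y).comp r) (ev y (g t)) q = 0
  have hloc : ∀ y : X, ∃ U : X.Opens, y ∈ U ∧ ∃ p : k[X], p.Monic ∧ ∀ z ∈ U, val z p := by
    intro y
    obtain ⟨_, ⟨U, hU, rfl⟩, hyU, -⟩ :=
      X.isBasis_affineOpens.exists_subset_of_mem_open (Set.mem_univ y) isOpen_univ
    refine ⟨U, hyU, ?_⟩
    let res := (X.presheaf.map (homOfLE (le_top : U ≤ ⊤)).op).hom
    letI : Algebra k Γ(X, U) := (res.comp r).toAlgebra
    haveI : Algebra.FiniteType k Γ(X, U) :=
      (LocallyOfFiniteType.finiteType_appLE a (isAffineOpen_top _) hU (show U ≤ a ⁻¹ᵁ ⊤ from le_top)).comp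
        (RingHom.FiniteType.of_surjective (Scheme.ΓSpecIso (CommRingCat.of k)).inv.hom
          (Scheme.ΓSpecIso (CommRingCat.of k)).symm.commRingCatIsoToRingEquiv.surjective)
    obtain ⟨p, hpm, hp⟩ := isIntegral_map_field (k := k) (res.comp g) t
    refine ⟨p, hpm, fun z hz => ?_⟩
    have h0 := congrArg (X.evaluation U z hz).hom hp
    rw [map_zero, RingHom.algebraMap_toAlgebra, hom_eval₂] at h0
    have hcomp : (X.evaluation U z hz).hom.comp res = ev z := by
      rw [← CommRingCat.hom_comp]
      exact congrArg CommRingCat.Hom.hom (X.presheaf.germ_res_assoc (homOfLE (le_top : U ≤ ⊤)) z hz _)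
    show eval₂ _ _ p = 0
    rw [← hcomp]
    exact h0
  obtain ⟨y₀⟩ : Nonempty X := inferInstance
  obtain ⟨q, hqi, hqm, hqy⟩ : ∃ q : k[X], Irreducible q ∧ q.Monic ∧ val y₀ q := by
    obtain ⟨U, hy, p, hp, hval⟩ := hloc y₀
    letI : Algebra k (X.residueField y₀) := ((ev y₀).comp r).toAlgebra
    have hi : IsIntegral k (ev y₀ (g t)) := ⟨p, hp, hval y₀ hy⟩
    exact ⟨minpoly k _, minpoly.irreducible hi, minpoly.monic hi, minpoly.aeval k (ev y₀ (g t))⟩
  refine ⟨q, hqm, ?_⟩
  let Z : Set X := {y | val y q}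
  have hZ : IsClopen Z := by
    have hcl : IsClosed Z := by
      have : Z = (X.basicOpen (eval₂ r (g t) q) : Set X)ᶜ := by
        ext y
        rw [Set.mem_compl_iff, SetLike.mem_coe, ← evaluation_top_eq_zero_iff]
        show eval₂ _ _ q = 0 ↔ ev y (eval₂ r (g t) q) = 0
        rw [hom_eval₂]
      rw [this]; exact (X.basicOpen _).2.isClosed_compl
    refine ⟨hcl, isOpen_iff_forall_mem_open.mpr fun y hy => ?_⟩
    obtain ⟨U, hyU, p, hpm, hval⟩ := hloc y
    obtain ⟨s, hps, hqs⟩ := FiniteMultiplicity.exists_eq_pow_mul_and_not_dvd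
      (FiniteMultiplicity.of_prime_left hqi.prime hpm.ne_zero)
    obtain ⟨c, d, hcd⟩ := (hqi.coprime_iff_not_dvd).mpr hqs
    refine ⟨U ∩ X.basicOpen (eval₂ r (g t) s), fun z ⟨hzU, hzs⟩ => ?_,
      U.2.inter (X.basicOpen _).2, hyU, ?_⟩
    · have hzs' : ev z (eval₂ r (g t) s) ≠ 0 :=
        (evaluation_top_ne_zero_iff _ _).mpr hzs
      rw [hom_eval₂] at hzs'
      have := hval z hzU
      show eval₂ _ _ q = 0
      simp only [val] at this
      rw [hps] at this
      simp only [eval₂_mul, eval₂_pow, mul_eq_zero, hzs', or_false] at this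
      exact pow_eq_zero_iff'.mp this |>.1
    · refine (evaluation_top_ne_zero_iff _ _).mp ?_
      show ev y (eval₂ r (g t) s) ≠ 0
      rw [hom_eval₂]
      intro h0
      have h1 := congrArg (eval₂ ((ev y).comp r) (ev y (g t))) hcd
      have hy' : eval₂ ((ev y).comp r) (ev y (g t)) q = 0 := hy
      simp [eval₂_add, eval₂_mul, hy', h0] at h1
  have hall : Z = Set.univ := hZ.eq_univ ⟨y₀, hqy⟩
  refine (basicOpen_eq_bot_iff _).mp (eq_bot_iff.mpr fun y hy => absurd ?_
    ((evaluation_top_ne_zero_iff _ _).mpr hy))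
  show ev y (eval₂ r (g t) q) = 0
  rw [hom_eval₂]
  exact (hall ▸ Set.mem_univ y : y ∈ Z)

theorem isIntegralElem_transfer (X : Scheme.{u}) [IsReduced X] [ConnectedSpace X] (k₁ k₂ : Type u)
    [Field k₁] [Field k₂] (a : X ⟶ Spec (CommRingCat.of k₁)) [LocallyOfFiniteType a]
    (r : k₂ →+* Γ(X, ⊤)) (x : Γ(X, ⊤)) (hx : r.IsIntegralElem x) :
    (a.appTop.hom.comp (Scheme.ΓSpecIso (CommRingCat.of k₁)).inv.hom).IsIntegralElem x := by
  letI := r.toAlgebra
  haveI : Nontrivial Γ(X, ⊤) := by
    refine nontrivial_of_ne (0 : Γ(X, ⊤)) 1 fun h => ?_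
    obtain ⟨y⟩ : Nonempty X := inferInstance
    have := congrArg (X.evaluation ⊤ y trivial) h
    simp at this
  have hi : IsIntegral k₂ x := hx
  have hirr : Irreducible (minpoly k₂ x) := by
    refine irreducible_iff.mpr ⟨minpoly.not_isUnit k₂ x, fun p q hpq => ?_⟩
    have hmin : ∀ f : k₂[X], f ∣ minpoly k₂ x → aeval x f = 0 → Associated f (minpoly k₂ x) :=
      fun f hf hfx => associated_of_dvd_dvd hf (minpoly.dvd k₂ x hfx)
    have hp0 : p ≠ 0 := fun h => minpoly.ne_zero hi (by rw [hpq, h, zero_mul])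
    have hq0 : q ≠ 0 := fun h => minpoly.ne_zero hi (by rw [hpq, h, mul_zero])
    have h0 : aeval x p * aeval x q = 0 := by rw [← map_mul, ← hpq, minpoly.aeval]
    by_cases hco : IsCoprime p q
    · obtain ⟨c, d, hcd⟩ := hco
      have hs := congrArg (aeval x) hcd
      rw [map_add, map_mul, map_mul, map_one] at hs
      rcases eq_zero_or_one_of_idempotent X (aeval x c * aeval x p)
        (by linear_combination (aeval x c * aeval x p) * hs - (aeval x c * aeval x d) * h0) with he | he
      · have hpx : aeval x p = 0 := by linear_combination (-(aeval x p)) * hs + aeval x p * he + aeval x d * h0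
        obtain ⟨u, hu⟩ := hmin p (hpq ▸ dvd_mul_right p q) hpx
        exact Or.inr ((mul_left_cancel₀ hp0 (hu.trans hpq)) ▸ u.isUnit)
      · have hqx : aeval x q = 0 := by linear_combination (-(aeval x q)) * he + aeval x c * h0
        obtain ⟨u, hu⟩ := hmin q (hpq ▸ dvd_mul_left q p) hqx
        exact Or.inl ((mul_left_cancel₀ hq0 (hu.trans (hpq.trans (mul_comm p q)))) ▸ u.isUnit)
    · exfalso
      obtain ⟨d, hd, hdp, hdq⟩ : ∃ d, Irreducible d ∧ d ∣ p ∧ d ∣ q := by
        by_contra hne
        push Not at hne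
        exact hco (isCoprime_of_irreducible_dvd (fun h => hp0 h.1) fun z hz hzp => hne z hz hzp)
      obtain ⟨p', rfl⟩ := hdp
      obtain ⟨q', rfl⟩ := hdq
      have hfx : aeval x (d * (p' * q')) = 0 := by
        have hnil : IsNilpotent (aeval x (d * (p' * q'))) := ⟨2, by
          rw [← map_pow, show (d * (p' * q')) ^ 2 = minpoly k₂ x * (p' * q') by rw [hpq]; ring, map_mul,
            minpoly.aeval, zero_mul]⟩
        exact hnil.eq_zero
      obtain ⟨w, hw⟩ := minpoly.dvd k₂ x hfx
      rw [hpq] at hw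
      have hne : d * (p' * q') ≠ 0 := mul_ne_zero hd.ne_zero
        (mul_ne_zero (right_ne_zero_of_mul hp0) (right_ne_zero_of_mul hq0))
      have h1 : d * (p' * q') * 1 = d * (p' * q') * (d * w) := by linear_combination hw
      exact hd.not_isUnit (IsUnit.of_mul_eq_one w (mul_left_cancel₀ hne h1).symm)
  haveI : Fact (Irreducible (minpoly k₂ x)) := ⟨hirr⟩
  have := isIntegralElem_of_field X k₁ a
    (AdjoinRoot.liftAlgHom (minpoly k₂ x) (Algebra.ofId k₂ Γ(X, ⊤)) x (minpoly.aeval k₂ x)).toRingHom
    (AdjoinRoot.root _)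
  simpa using this

end GrothLib.UnitsFG
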