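import Groth.Agent.Lib.UnitsFG.Domain
import Mathlib.AlgebraicGeometry.Morphisms.FiniteType
import Mathlib.AlgebraicGeometry.Properties
import Mathlib.AlgebraicGeometry.AffineScheme

/-!
Global units of a reduced scheme locally of finite type over a field with finitely many irreducible
components are, modulo algebraic constants, finitely generated.
-/

set_option linter.style.header false
set_option linter.style.haveILetI false

universe u

open CategoryTheory AlgebraicGeometry Opposite

namespace GrothLib.UnitsFG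

theorem isDomain_Γ_of_isIrreducible (X : Scheme.{u}) [IsReduced X] (U : X.Opens)
    (hU : IsIrreducible (U : Set X)) : IsDomain Γ(X, U) := by
  haveI hpre : PreirreducibleSpace ↥(U : Scheme.{u}) := Subtype.preirreducibleSpace hU.2
  haveI : IrreducibleSpace ↥(U : Scheme.{u}) := { hpre with toNonempty := ⟨⟨hU.1.some, hU.1.some_mem⟩⟩ }
  haveI : IsReduced (U : Scheme.{u}) := isReduced_of_isOpenImmersion U.ι
  haveI : IsIntegral (U : Scheme.{u}) := isIntegral_of_irreducibleSpace_of_isReduced _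
  exact U.topIso.commRingCatIsoToRingEquiv.symm.toMulEquiv.isDomain _

/-- A reduced scheme with finitely many components has finitely many affine opens with domains of sections
that jointly detect global functions. -/
theorem exists_domain_opens (X : Scheme.{u}) [IsReduced X]
    (hirr : (irreducibleComponents (X : Type u)).Finite) :
    ∃ (κ : Type u) (_ : Finite κ) (U : κ → X.Opens), (∀ i, IsAffineOpen (U i)) ∧
      (∀ i, IsDomain Γ(X, U i)) ∧
      ∀ a : Γ(X, ⊤), (∀ i, X.presheaf.map (homOfLE (le_top : U i ≤ ⊤)).op a = 0) → a = 0 := by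
  haveI := hirr.to_subtype
  have key : ∀ Z : irreducibleComponents (X : Type u), ∃ U : X.Opens, IsAffineOpen U ∧
      (U : Set X) ⊆ Z.1 ∧ (U : Set X).Nonempty := by
    rintro ⟨Z, hZ⟩
    let W : X.Opens := ⟨(⋃₀ (irreducibleComponents (X : Type u) \ {Z}))ᶜ, by
      rw [Set.sUnion_eq_biUnion]
      exact (hirr.sdiff.isClosed_biUnion fun T hT => isClosed_of_mem_irreducibleComponents T hT.1).isOpen_compl⟩
    have hcl : closure (W : Set X) = Z := closure_sUnion_irreducibleComponents_sdiff_singleton hirr Z hZ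
    obtain ⟨x, hx⟩ : (W : Set X).Nonempty := by
      rw [← closure_nonempty_iff, hcl]; exact hZ.1.1
    obtain ⟨_, ⟨U, hU, rfl⟩, hxU, hUW⟩ := X.isBasis_affineOpens.exists_subset_of_mem_open hx W.2
    exact ⟨U, hU, hUW.trans (subset_closure.trans hcl.subset), x, hxU⟩
  choose U hUa hUZ hUne using key
  refine ⟨_, inferInstance, U, hUa, fun Z => ?_, fun a ha => ?_⟩
  · refine isDomain_Γ_of_isIrreducible X (U Z) ⟨hUne Z, ?_⟩
    exact Z.2.1.2.open_subset (U Z).2 (hUZ Z)
  · refine (basicOpen_eq_bot_iff a).mp ?_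
    by_contra h
    obtain ⟨x, hx⟩ : (X.basicOpen a : Set X).Nonempty := by
      rw [Set.nonempty_iff_ne_empty]
      exact fun h' => h (TopologicalSpace.Opens.ext h')
    obtain ⟨Z, hZ, hxZ⟩ : x ∈ ⋃₀ irreducibleComponents (X : Type u) := by
      rw [sUnion_irreducibleComponents]; trivial
    obtain ⟨y, -, hyU, hya⟩ := hZ.1.2 _ _ (U ⟨Z, hZ⟩).2 (X.basicOpen a).2
      ((hUne ⟨Z, hZ⟩).mono fun y hy => ⟨hUZ ⟨Z, hZ⟩ hy, hy⟩) ⟨x, hxZ, hx⟩
    have h0 := congrArg X.basicOpen (ha ⟨Z, hZ⟩)
    rw [Scheme.basicOpen_res, Scheme.basicOpen_zero] at h0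
    exact (h0.le ⟨hyU, hya⟩ : y ∈ (⊥ : X.Opens))

theorem boundedUnits_Γ (k : Type u) [Field k] (X : Scheme.{u}) (f : X ⟶ Spec (CommRingCat.of k))
    [LocallyOfFiniteType f] [IsReduced X] (hirr : (irreducibleComponents (X : Type u)).Finite) :
    letI := (f.appTop.hom.comp (Scheme.ΓSpecIso (CommRingCat.of k)).inv.hom).toAlgebra
    BoundedUnits k Γ(X, ⊤) := by
  letI := (f.appTop.hom.comp (Scheme.ΓSpecIso (CommRingCat.of k)).inv.hom).toAlgebra
  obtain ⟨κ, hκ, U, hUa, hUd, hinj⟩ := exists_domain_opens X hirr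
  letI : ∀ i, Algebra k Γ(X, U i) := fun i =>
    ((X.presheaf.map (homOfLE (le_top : U i ≤ ⊤)).op).hom.comp
      (f.appTop.hom.comp (Scheme.ΓSpecIso (CommRingCat.of k)).inv.hom)).toAlgebra
  refine boundedUnits_of_family (κ := κ) (B := fun i => Γ(X, U i))
    (fun i => { (X.presheaf.map (homOfLE (le_top : U i ≤ ⊤)).op).hom with commutes' := fun _ => rfl })
    hinj fun i => ?_
  haveI := hUd i
  haveI : Algebra.FiniteType k Γ(X, U i) := by
    have h := LocallyOfFiniteType.finiteType_appLE f (isAffineOpen_top _) (hUa i)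
      (show U i ≤ f ⁻¹ᵁ ⊤ from le_top)
    have h' := h.comp (RingHom.FiniteType.of_surjective (Scheme.ΓSpecIso (CommRingCat.of k)).inv.hom
      (Scheme.ΓSpecIso (CommRingCat.of k)).symm.commRingCatIsoToRingEquiv.surjective)
    exact h'
  exact boundedUnits_of_domain k Γ(X, U i)

theorem fg_of_injective_toPi {G : Type*} [CommGroup G] {ι : Type*} [Finite ι]
    (φ : G →* (ι → Multiplicative ℤ)) (hφ : Function.Injective φ) : Group.FG G := by
  rw [GroupFG.iff_add_fg, ← Module.Finite.iff_addGroup_fg]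
  let ψ : Additive G →+ (ι → ℤ) :=
    { toFun := fun g i => Multiplicative.toAdd (φ (Additive.toMul g) i)
      map_zero' := by ext; simp
      map_add' := fun a b => by ext; simp }
  exact Module.Finite.of_injective ψ.toIntLinearMap fun a b h =>
    Additive.toMul.injective (hφ (funext fun i => Multiplicative.toAdd.injective (congr_fun h i)))

theorem fg_units_quotient (k : Type u) [Field k] (X : Scheme.{u}) (f : X ⟶ Spec (CommRingCat.of k))
    [LocallyOfFiniteType f] [IsReduced X] (hirr : (irreducibleComponents (X : Type u)).Finite)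
    (hint : ∀ x : Γ(X, ⊤), (f.appTop.hom.comp (Scheme.ΓSpecIso (CommRingCat.of k)).inv.hom).IsIntegralElem x →
      x ∈ Set.range (f.appTop.hom.comp (Scheme.ΓSpecIso (CommRingCat.of k)).inv.hom)) :
    Group.FG ((Γ(X, ⊤))ˣ ⧸ (Units.map ((f.appTop.hom.comp (Scheme.ΓSpecIso (CommRingCat.of k)).inv.hom :
      k →+* Γ(X, ⊤)) : k →* Γ(X, ⊤))).range) := by
  obtain ⟨ι, hι, φ, hφ⟩ := boundedUnits_Γ k X f hirr
  set r := f.appTop.hom.comp (Scheme.ΓSpecIso (CommRingCat.of k)).inv.hom with hr
  have hker : φ.ker ≤ (Units.map (r : k →* Γ(X, ⊤))).range := fun x hx => by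
    obtain ⟨c, hc⟩ := hint x (hφ x hx)
    by_cases hc0 : c = 0
    · haveI : Subsingleton Γ(X, ⊤) := by
        refine subsingleton_of_zero_eq_one (M₀ := Γ(X, ⊤)) ?_
        rw [← Units.mul_inv x, ← hc, hc0, map_zero, zero_mul]
      exact ⟨1, Subsingleton.elim _ _⟩
    exact ⟨Units.mk0 c hc0, Units.ext hc⟩
  haveI : Group.FG φ.range := fg_of_injective_toPi φ.range.subtype Subtype.val_injective
  haveI : Group.FG ((Γ(X, ⊤))ˣ ⧸ φ.ker) :=
    Group.fg_of_surjective (f := (QuotientGroup.quotientKerEquivRange φ).symm.toMonoidHom)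
      (QuotientGroup.quotientKerEquivRange φ).symm.surjective
  exact Group.fg_of_surjective (f := QuotientGroup.map φ.ker _ (MonoidHom.id _) hker)
    fun q => QuotientGroup.induction_on q fun x => ⟨(x : (Γ(X, ⊤))ˣ ⧸ φ.ker), rfl⟩

end GrothLib.UnitsFG
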