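import Mathlib

/-!
The degree valuation `f/g ↦ exp (deg f - deg g)` on the fraction field of a polynomial ring: its valuation
ring is a principal ideal ring and meets the polynomials in the constants.
-/

set_option linter.style.header false

universe u v

open MvPolynomial

namespace GrothLib.UnitsFG

variable (σ : Type v) (k : Type u) [Field k]

open scoped Classical in
/-- The valuation `f ↦ exp (totalDegree f)` of a polynomial ring. -/
noncomputable def degVal : Valuation (MvPolynomial σ k) (WithZero (Multiplicative ℤ)) where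
  toFun f := if f = 0 then 0 else WithZero.exp (f.totalDegree : ℤ)
  map_zero' := if_pos rfl
  map_one' := by simp [totalDegree_one, WithZero.exp_zero]
  map_mul' f g := by
    by_cases hf : f = 0
    · simp [hf]
    by_cases hg : g = 0
    · simp [hg]
    simp only [hf, hg, mul_eq_zero, or_self, if_false]
    rw [totalDegree_mul_of_isDomain hf hg, ← WithZero.exp_add, Nat.cast_add]
  map_add_le_max' f g := by
    by_cases hfg : f + g = 0
    · simp [hfg]
    by_cases hf : f = 0
    · simp [hf]
    by_cases hg : g = 0
    · simp [hg]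
    simp only [hf, hg, hfg, if_false, le_max_iff, WithZero.exp_le_exp, Nat.cast_le]
    exact le_max_iff.mp (totalDegree_add f g)

variable {σ k}

theorem degVal_apply {f : MvPolynomial σ k} (hf : f ≠ 0) :
    degVal σ k f = WithZero.exp (f.totalDegree : ℤ) := by
  simp [degVal, hf]

theorem degVal_supp : nonZeroDivisors (MvPolynomial σ k) ≤ (degVal σ k).supp.primeCompl := by
  intro f hf
  show f ∉ (degVal σ k).supp
  rw [Valuation.mem_supp_iff, degVal_apply (nonZeroDivisors.ne_zero hf)]
  exact WithZero.exp_ne_zero

variable (σ k) (L : Type*) [Field L] [Algebra (MvPolynomial σ k) L] [IsFractionRing (MvPolynomial σ k) L]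

/-- The degree valuation on the field of rational functions. -/
noncomputable def fracVal : Valuation L (WithZero (Multiplicative ℤ)) :=
  (degVal σ k).extendToLocalization degVal_supp L

theorem fracVal_algebraMap (f : MvPolynomial σ k) :
    fracVal σ k L (algebraMap _ L f) = degVal σ k f :=
  Valuation.extendToLocalization_apply_map_apply ..

variable {σ k} in
theorem eq_C_of_fracVal_le_one {f : MvPolynomial σ k}
    (h : fracVal σ k L (algebraMap _ L f) ≤ 1) : f = C (f.coeff 0) := by
  by_cases hf : f = 0
  · simp [hf]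
  rw [fracVal_algebraMap, degVal_apply hf, ← WithZero.exp_zero, WithZero.exp_le_exp] at h
  exact totalDegree_eq_zero_iff_eq_C.mp (by omega)

/-- The valuation ring of a `ℤᵐ⁰`-valued valuation on a field is a principal ideal ring. -/
theorem isPrincipalIdealRing_valuationSubring {F : Type*} [Field F]
    (v : Valuation F (WithZero (Multiplicative ℤ))) : IsPrincipalIdealRing v.valuationSubring := by
  refine ⟨fun I => ?_⟩
  classical
  by_cases hI : I = ⊥
  · exact hI ▸ ⟨⟨0, (Submodule.span_singleton_eq_bot.mpr rfl).symm⟩⟩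
  obtain ⟨a₀, ha₀, ha₀0⟩ := I.ne_bot_iff.mp hI
  have hex : ∃ n : ℕ, ∃ a ∈ I, a ≠ 0 ∧ v (a : F) = WithZero.exp (-(n : ℤ)) := by
    have hne : v (a₀ : F) ≠ 0 := by simpa using ha₀0
    have hle : v (a₀ : F) ≤ 1 := a₀.2
    refine ⟨(-(WithZero.log (v (a₀ : F)))).toNat, a₀, ha₀, ha₀0, ?_⟩
    have hl : WithZero.log (v (a₀ : F)) ≤ 0 := by
      rwa [← WithZero.log_one, WithZero.log_le_log hne one_ne_zero]
    rw [Int.toNat_of_nonneg (by omega), neg_neg, WithZero.exp_log hne]
  obtain ⟨a, ha, ha0, hva⟩ := Nat.find_spec hex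
  refine ⟨⟨a, le_antisymm (fun x hx => ?_) (by rwa [Submodule.span_singleton_le_iff_mem])⟩⟩
  rw [Submodule.mem_span_singleton]
  have hFa : (a : F) ≠ 0 := by simpa using ha0
  by_cases hx0 : x = 0
  · exact ⟨0, by simp [hx0]⟩
  have hxle : v (x : F) ≤ v (a : F) := by
    have hne : v (x : F) ≠ 0 := by simpa using hx0
    have hl : WithZero.log (v (x : F)) ≤ 0 := by
      rw [← WithZero.log_one, WithZero.log_le_log hne one_ne_zero]; exact x.2
    have hmin := Nat.find_min' hex (m := (-(WithZero.log (v (x : F)))).toNat)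
      ⟨x, hx, hx0, by rw [Int.toNat_of_nonneg (by omega), neg_neg, WithZero.exp_log hne]⟩
    rw [hva, ← WithZero.exp_log hne, WithZero.exp_le_exp]
    omega
  refine ⟨⟨(x : F) / a, ?_⟩, ?_⟩
  · show v ((x : F) / a) ≤ 1
    rw [map_div₀]
    exact div_le_one_of_le₀ hxle zero_le
  · apply Subtype.ext
    simp [hFa]

end GrothLib.UnitsFG
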